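import Groth.Prelude.Def_SymProd
import Groth.Agent.Stk19b.HilbCurve.Smooth
import Groth.Agent.AbCubeLib.RankTrans

/-!
# The morphism from the fibre power of a relative curve to the Hilbert scheme of points
-/

set_option autoImplicit false
set_option linter.style.haveILetI false
set_option backward.isDefEq.respectTransparency false
set_option backward.isDefEq.respectTransparency.types false

universe u

open CategoryTheory CategoryTheory.Limits AlgebraicGeometry
open Groth.Agent

namespace Groth.Agent.Stk19b.SymCurve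

variable {X S : Scheme.{u}} (f : X ⟶ S)

/-- The fibre power as a scheme over the base. -/
noncomputable abbrev pw (n : ℕ) : Over S := Over.mk (WidePullback.base fun _ : Fin n => f)

/-- The sum of the tautological sections. -/
noncomputable def sumGraph (n : ℕ) : (PicF.XT f (pw f n)).IdealSheafData :=
  ∏ i : Fin n, HilbD.secGraph f (pw f n) (WidePullback.π _ i) (WidePullback.π_arrow (fun _ : Fin n => f) i)

theorem secGraph_congr {T : Over S} {x y : T.left ⟶ X} (h : x = y) (hx : x ≫ f = T.hom) (hy : y ≫ f = T.hom) :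
    HilbD.secGraph f T x hx = HilbD.secGraph f T y hy := by
  subst h; rfl

theorem pull_prod [IsSeparated f] {T T' : Over S} (g : T' ⟶ T) {n : ℕ} (x : Fin n → (T.left ⟶ X))
    (hx : ∀ i, x i ≫ f = T.hom) (x' : Fin n → (T'.left ⟶ X)) (hx' : ∀ i, x' i ≫ f = T'.hom)
    (h : ∀ i, g.left ≫ x i = x' i) :
    HilbD.pull f g (∏ i, HilbD.secGraph f T (x i) (hx i)) = ∏ i, HilbD.secGraph f T' (x' i) (hx' i) := by
  induction n with
  | zero =>
    simp only [Finset.univ_eq_empty, Finset.prod_empty, Scheme.IdealSheafData.one_eq_top, HilbSh8.pull_eq_comap,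
      Scheme.IdealSheafData.comap_top]
  | succ n ih =>
    rw [Fin.prod_univ_succ, Fin.prod_univ_succ, HilbCurve.pull_mul,
      HilbCurve.pull_secGraph f g _ _ _ (hx' 0) (h 0), ih _ _ _ _ (fun i => h i.succ)]

/-- The forgetful map to the smaller fibre power. -/
noncomputable def initMap (n : ℕ) : pw f (n + 1) ⟶ pw f n :=
  Over.homMk (WidePullback.lift (WidePullback.base fun _ : Fin (n + 1) => f)
    (fun i => WidePullback.π (fun _ : Fin (n + 1) => f) i.castSucc) (fun i => WidePullback.π_arrow _ _))
    (WidePullback.lift_base _ _ _ _)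

theorem initMap_π (n : ℕ) (i : Fin n) :
    (initMap f n).left ≫ WidePullback.π (fun _ : Fin n => f) i = WidePullback.π (fun _ => f) i.castSucc :=
  WidePullback.lift_π _ _ _ _ i

theorem initMap_base (n : ℕ) :
    (initMap f n).left ≫ WidePullback.base (fun _ : Fin n => f) = WidePullback.base (fun _ => f) :=
  WidePullback.lift_base _ _ _ _

theorem isPullback_init (n : ℕ) : IsPullback (WidePullback.π (fun _ : Fin (n + 1) => f) (Fin.last n))
    (initMap f n).left f (WidePullback.base fun _ : Fin n => f) := by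
  refine ⟨⟨by rw [initMap_base]; exact WidePullback.π_arrow _ _⟩, ⟨PullbackCone.IsLimit.mk _
    (fun s => WidePullback.lift (s.snd ≫ WidePullback.base fun _ : Fin n => f)
      (Fin.lastCases s.fst (fun i => s.snd ≫ WidePullback.π _ i))
      (fun i => ?_)) (fun s => ?_) (fun s => ?_) (fun s m h1 h2 => ?_)⟩⟩
  · cases i using Fin.lastCases with
    | last => simp only [Fin.lastCases_last]; exact s.condition
    | cast i => simp only [Fin.lastCases_castSucc, Category.assoc, WidePullback.π_arrow]
  · rw [WidePullback.lift_π, Fin.lastCases_last]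
  · refine WidePullback.hom_ext _ _ _ (fun i => ?_) ?_
    · rw [Category.assoc, initMap_π, WidePullback.lift_π, Fin.lastCases_castSucc]
    · rw [Category.assoc, initMap_base, WidePullback.lift_base]
  · refine WidePullback.hom_ext _ _ _ (fun i => ?_) ?_
    · rw [WidePullback.lift_π]
      cases i using Fin.lastCases with
      | last => rw [Fin.lastCases_last]; exact h1
      | cast i => rw [Fin.lastCases_castSucc, ← initMap_π, reassoc_of% h2]
    · rw [WidePullback.lift_base, ← h2, Category.assoc, initMap_base]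

theorem isIso_base_zero : IsIso (WidePullback.base fun _ : Fin 0 => f) :=
  ⟨WidePullback.lift (𝟙 S) Fin.elim0 (fun i => i.elim0),
    WidePullback.hom_ext _ _ _ (fun i => i.elim0) (by rw [Category.assoc, WidePullback.lift_base]; simp),
    WidePullback.lift_base _ _ _ _⟩

/-- The permutations as automorphisms over the base. -/
noncomputable def permOver (n : ℕ) (σ : Equiv.Perm (Fin n)) : pw f n ⟶ pw f n :=
  Over.homMk (SymProd.permHom f n σ) (SymProd.permHom_base f n σ)

variable [IsSeparated f]

theorem pull_perm (n : ℕ) (σ : Equiv.Perm (Fin n)) :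
    HilbD.pull f (permOver f n σ) (sumGraph f n) = sumGraph f n := by
  rw [sumGraph, pull_prod f (permOver f n σ) _ _ (fun i => WidePullback.π (fun _ => f) (σ.symm i))
    (fun i => WidePullback.π_arrow _ _) (fun i => SymProd.permHom_π f n σ i)]
  exact Equiv.prod_comp σ.symm (fun i => HilbD.secGraph f (pw f n) (WidePullback.π _ i) (WidePullback.π_arrow _ i))

theorem perm_comp {n : ℕ} {H : Over S} {Z : HilbD.Obj f n H} (hZ : HilbD.IsUniversal f n H Z) {ψ : pw f n ⟶ H}
    (hψ : HilbD.pull f ψ Z.1 = sumGraph f n) (σ : Equiv.Perm (Fin n)) :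
    SymProd.permHom f n σ ≫ ψ.left = ψ.left := by
  have : permOver f n σ ≫ ψ = ψ :=
    (hZ _ ⟨_, HilbSh8.isFinLocFreeOfDeg_pull f ψ Z.2⟩).unique
      (show HilbD.pull f (permOver f n σ ≫ ψ) Z.1 = HilbD.pull f ψ Z.1 by
        rw [← HilbSh8.pull_pull, hψ, pull_perm]) rfl
  exact congrArg (fun h => h.left) this

variable [SmoothOfRelativeDimension 1 f]

theorem isFinLocFreeOfDeg_prod {T : Over S} {n : ℕ} (x : Fin n → (T.left ⟶ X))
    (hx : ∀ i, x i ≫ f = T.hom) :
    Mor2.IsFinLocFreeOfDeg n ((∏ i, HilbD.secGraph f T (x i) (hx i)).subschemeι ≫ PicF.XTproj f T) := by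
  induction n with
  | zero =>
    rw [Finset.univ_eq_empty, Finset.prod_empty, Scheme.IdealSheafData.one_eq_top]
    have : IsEmpty (⊤ : (PicF.XT f T).IdealSheafData).subscheme := by
      have : IsEmpty ((⊤ : (PicF.XT f T).IdealSheafData).support : Set (PicF.XT f T)) := by simp
      rw [← Scheme.IdealSheafData.range_subschemeι] at this
      exact Function.isEmpty (fun z => (⟨_, z, rfl⟩ :
        Set.range (⊤ : (PicF.XT f T).IdealSheafData).subschemeι))
    exact ⟨⟨inferInstance, inferInstance, inferInstance⟩, fun y => HilbCurve.finrank_eq_zero_of_isEmpty _ y⟩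
  | succ n ih =>
    rw [Fin.prod_univ_succ]
    have h := DivCurve29.mul_isDiv _ (HilbCurve.isFinLocFreeOfDeg_secGraph f T (x 0) (hx 0))
      (ih (fun i => x i.succ) (fun i => hx i.succ))
    exact ⟨h.1, fun y => (h.2 y).trans (add_comm 1 n)⟩

theorem isFinLocFreeOfDeg_sumGraph (n : ℕ) :
    Mor2.IsFinLocFreeOfDeg n ((sumGraph f n).subschemeι ≫ PicF.XTproj f (pw f n)) :=
  isFinLocFreeOfDeg_prod f _ _

/-- The classifying map of the sum of the tautological sections is finite locally free of degree `n!`. -/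
theorem psi_finLocFree (hrep : ∀ e : ℕ, HilbD.Representable f e) :
    ∀ (n : ℕ) (H : Over S) (Z : HilbD.Obj f n H), HilbD.IsUniversal f n H Z → ∀ ψ : pw f n ⟶ H,
      HilbD.pull f ψ Z.1 = sumGraph f n → Mor2.IsFinLocFreeOfDeg n.factorial ψ.left := by
  intro n
  induction n with
  | zero =>
    intro H Z hZ ψ hψ
    have := HilbCurve.isIso_hom_zero f H Z hZ
    have := isIso_base_zero f
    have : IsIso (ψ.left ≫ H.hom) := by rw [Over.w ψ]; exact isIso_base_zero f
    have : IsIso ψ.left := IsIso.of_isIso_comp_right ψ.left H.hom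
    exact ⟨⟨inferInstance, inferInstance, inferInstance⟩, fun y => congrFun (Scheme.Hom.finrank_eq_one_of_isIso _) y⟩
  | succ n ih =>
    intro H' Z' hZ' ψ' hψ'
    obtain ⟨H, Z, hZ⟩ := hrep n
    obtain ⟨ψ, hψ, -⟩ := hZ (pw f n) ⟨_, isFinLocFreeOfDeg_sumGraph f n⟩
    obtain ⟨⟨a1, a2, a3⟩, a4⟩ := ih H Z hZ ψ hψ
    haveI := a1; haveI := a2; haveI := a3
    let P : Over S := Over.mk (pullback.fst H.hom f ≫ H.hom)
    let π₁ : P ⟶ H := Over.homMk (pullback.fst H.hom f) rfl
    obtain ⟨m, hm, -⟩ := hZ' P ⟨_, DivCurve29.mul_isDiv (PicF.XTproj f P) (HilbSh8.isFinLocFreeOfDeg_pull f π₁ Z.2)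
      (HilbCurve.isFinLocFreeOfDeg_secGraph f P (pullback.snd H.hom f) pullback.condition.symm)⟩
    obtain ⟨⟨b1, b2, b3⟩, b4⟩ := HilbCurve.addPoint_finLocFree f n H Z hZ H' Z' hZ' m hm
    haveI := b1; haveI := b2; haveI := b3
    have hw : ((initMap f n).left ≫ ψ.left) ≫ H.hom = WidePullback.π (fun _ : Fin (n + 1) => f) (Fin.last n) ≫ f := by
      rw [Category.assoc, Over.w ψ]
      exact (initMap_base f n).trans (WidePullback.π_arrow _ _).symm
    let κ : pw f (n + 1) ⟶ P := Over.homMk (pullback.lift _ _ hw) (by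
      show pullback.lift _ _ hw ≫ pullback.fst H.hom f ≫ H.hom = WidePullback.base _
      rw [pullback.lift_fst_assoc, hw]
      exact WidePullback.π_arrow _ _)
    have hκ1 : κ ≫ π₁ = initMap f n ≫ ψ := Over.OverMorphism.ext (pullback.lift_fst _ _ _)
    have sq : IsPullback κ.left (initMap f n).left (pullback.fst H.hom f) ψ.left := by
      refine IsPullback.of_right ?_ (pullback.lift_fst _ _ _) (IsPullback.of_hasPullback H.hom f).flip
      have : κ.left ≫ pullback.snd H.hom f = WidePullback.π (fun _ : Fin (n + 1) => f) (Fin.last n) :=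
        pullback.lift_snd _ _ _
      rw [this, Over.w ψ]
      exact isPullback_init f n
    have hψeq : ψ' = κ ≫ m := by
      refine (hZ' _ ⟨_, isFinLocFreeOfDeg_sumGraph f (n + 1)⟩).unique hψ' ?_
      show HilbD.pull f (κ ≫ m) Z'.1 = sumGraph f (n + 1)
      rw [← HilbSh8.pull_pull, hm, HilbCurve.pull_mul, HilbSh8.pull_pull, hκ1, ← HilbSh8.pull_pull, hψ,
        HilbCurve.pull_secGraph f κ _ _ _ (WidePullback.π_arrow _ _) (pullback.lift_snd _ _ _)
        ]
      show HilbD.pull f (initMap f n) (sumGraph f n) * _ = sumGraph f (n + 1)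
      unfold sumGraph
      rw [pull_prod f (initMap f n) _ _ _ (fun i => WidePullback.π_arrow _ _) (fun i => initMap_π f n i)]
      exact (Fin.prod_univ_castSucc (fun i => HilbD.secGraph f (pw f (n + 1)) (WidePullback.π _ i) (WidePullback.π_arrow _ i))).symm
    haveI : IsFinite κ.left := MorphismProperty.of_isPullback sq.flip a1
    haveI : Flat κ.left := MorphismProperty.of_isPullback sq.flip a2
    haveI : LocallyOfFinitePresentation κ.left := MorphismProperty.of_isPullback sq.flip a3
    subst hψeq
    show Mor2.IsFinLocFreeOfDeg _ (κ.left ≫ m.left)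
    refine ⟨⟨inferInstance, inferInstance, inferInstance⟩, fun y => ?_⟩
    rw [AbCubeLib.finrank_comp κ.left m.left (n := n.factorial) (fun z => by
      rw [Scheme.Hom.finrank_of_isPullback _ _ _ _ sq.flip z]; exact a4 _) y, b4, Nat.factorial_succ, mul_comm]

end Groth.Agent.Stk19b.SymCurve
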