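import Groth.Agent.Stk19b.SymCurve.Quot

/-!
# The universal divisor on a symmetric power of a relative curve
-/

set_option autoImplicit false
set_option linter.style.haveILetI false
set_option backward.isDefEq.respectTransparency false
set_option backward.isDefEq.respectTransparency.types false

universe u

open CategoryTheory CategoryTheory.Limits AlgebraicGeometry
open Groth.Agent

namespace Groth.Agent.Stk19b.SymCurve

theorem isFinLocFreeOfDeg_comp_iso {A B B' : Scheme.{u}} {d : ℕ} (φ : A ⟶ B)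
    (h : Mor2.IsFinLocFreeOfDeg d φ) (e : B ⟶ B') [IsIso e] : Mor2.IsFinLocFreeOfDeg d (φ ≫ e) := by
  obtain ⟨⟨h1, h2, h3⟩, h4⟩ := h
  haveI := h1; haveI := h2; haveI := h3
  refine ⟨⟨inferInstance, inferInstance, inferInstance⟩, fun y => ?_⟩
  obtain ⟨z, rfl⟩ := e.homeomorph.surjective y
  exact (AbCubeLib.finrank_comp_iso φ e z).trans (h4 z)

variable {X S Y : Scheme.{u}} (f : X ⟶ S) [IsProper f] [SmoothOfRelativeDimension 1 f] {n : ℕ}
  (q : SymProd.fibPow f n ⟶ Y) (g : Y ⟶ S)

/-- The universal family on a symmetric power. -/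
theorem exists_univ (hAF : SymProd.IsAF f) (hq : SymProd.IsSymProd f n q g) :
    ∃ D : HilbD.Obj f n (Over.mk g), HilbD.IsUniversal f n (Over.mk g) D ∧
      HilbD.pull f (Over.homMk q hq.over : pw f n ⟶ Over.mk g) D.1 = sumGraph f n := by
  obtain ⟨H, Z, ψ, e, hZ, hψ, -, -, he⟩ := exists_model f hAF n q g hq
  let D : HilbD.Obj f n (Over.mk g) := ⟨_, HilbSh8.isFinLocFreeOfDeg_pull f e.inv Z.2⟩
  have key : ∀ {T : Over S} (k : T ⟶ H), HilbD.pull f (k ≫ e.hom) D.1 = HilbD.pull f k Z.1 := fun k => by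
    show HilbD.pull f (k ≫ e.hom) (HilbD.pull f e.inv Z.1) = _
    rw [HilbSh8.pull_pull, Category.assoc, e.hom_inv_id, Category.comp_id]
  refine ⟨D, fun T Z' => ?_, ?_⟩
  · obtain ⟨k, hk, huniq⟩ := hZ T Z'
    refine ⟨k ≫ e.hom, (key k).trans hk, fun k' hk' => ?_⟩
    rw [← huniq (k' ≫ e.inv), Category.assoc, e.inv_hom_id, Category.comp_id]
    show HilbD.pull f (k' ≫ e.inv) Z.1 = Z'.1
    rw [← key, Category.assoc, e.inv_hom_id, Category.comp_id]
    exact hk'
  · rw [show (Over.homMk q hq.over : pw f n ⟶ Over.mk g) = ψ ≫ e.hom from Over.OverMorphism.ext he.symm, key]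
    exact hψ

/-- The descended ideal of the sum of the graphs. -/
theorem exists_ideal (hAF : SymProd.IsAF f) (hq : SymProd.IsSymProd f n q g)
    (Φ : pullback (WidePullback.base fun _ : Fin n => f) f ⟶ pullback g f)
    (hΦ₁ : Φ ≫ pullback.fst g f = pullback.fst _ _ ≫ q) (hΦ₂ : Φ ≫ pullback.snd g f = pullback.snd _ _)
    (k : Fin n → (SymProd.fibPow f n ⟶ pullback (WidePullback.base fun _ : Fin n => f) f))
    (hk₁ : ∀ i, k i ≫ pullback.fst _ _ = 𝟙 _) (hk₂ : ∀ i, k i ≫ pullback.snd _ _ = WidePullback.π _ i) :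
    (∃! J : (pullback g f).IdealSheafData, J.comap Φ = ∏ i, (k i).ker) ∧
      ∀ J : (pullback g f).IdealSheafData, J.comap Φ = ∏ i, (k i).ker →
        Mor2.IsFinLocFreeOfDeg n (J.subschemeι ≫ pullback.fst g f) := by
  obtain ⟨H, Z, ψ, e, -, -, hdeg, -, he⟩ := exists_model f hAF n q g hq
  obtain ⟨⟨a1, a2, a3⟩, a4⟩ := hdeg
  haveI := a1; haveI := a2; haveI := a3
  haveI := (surjective_psi f (ψ := ψ) ⟨⟨a1, a2, a3⟩, a4⟩).1
  obtain ⟨D, -, hD⟩ := exists_univ f q g hAF hq
  let σY : pullback g f ⟶ PicF.XT f (Over.mk g) := (pullbackSymmetry g f).hom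
  let σP : pullback (WidePullback.base fun _ : Fin n => f) f ⟶ PicF.XT f (pw f n) := (pullbackSymmetry _ f).hom
  have hΦσ : Φ ≫ σY = σP ≫ PicF.XTmap f (Over.homMk q hq.over : pw f n ⟶ Over.mk g) := by
    apply pullback.hom_ext <;> simp [σY, σP, PicF.XTmap, hΦ₁, hΦ₂]
  have hsum : (sumGraph f n).comap σP = ∏ i, (k i).ker := by
    have hone : ∀ i : Fin n,
        (HilbD.secGraph f (pw f n) (WidePullback.π _ i) (WidePullback.π_arrow (fun _ : Fin n => f) i)).comap σP =
          (k i).ker := fun i => by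
      let γ := HilbCurve.graph f (pw f n) (WidePullback.π _ i) (WidePullback.π_arrow (fun _ : Fin n => f) i)
      haveI : IsClosedImmersion γ := HilbCurve.isClosedImmersion_graph f _ _ _
      have hkσ : k i ≫ σP = 𝟙 _ ≫ γ := by
        rw [Category.id_comp]
        apply pullback.hom_ext
        · erw [HilbCurve.graph_fst]; simp [σP, hk₂]
        · erw [HilbCurve.graph_snd]; simp [σP, hk₁]
      haveI : IsIso σP := by dsimp [σP]; infer_instance
      have sq : IsPullback (k i) (𝟙 _) σP γ := IsPullback.of_vert_isIso ⟨hkσ⟩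
      rw [HilbCurve.secGraph_eq, ← Scheme.IdealSheafData.ker_fst_of_isClosedImmersion γ σP,
        ← sq.isoPullback_hom_fst, Scheme.Hom.ker_comp_of_isIso]
    have hcomap : ∀ (m : ℕ) (I : Fin m → (PicF.XT f (pw f n)).IdealSheafData),
        (∏ i, I i).comap σP = ∏ i, (I i).comap σP := by
      intro m
      induction m with
      | zero => intro I; simp [Scheme.IdealSheafData.one_eq_top, Scheme.IdealSheafData.comap_top]
      | succ m ih => intro I; rw [Fin.prod_univ_succ, Fin.prod_univ_succ, ModPairLib.comap_mul, ih]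
    rw [sumGraph, hcomap]
    exact Finset.prod_congr rfl fun i _ => hone i
  have hJ : (D.1.comap σY).comap Φ = ∏ i, (k i).ker := by
    rw [← Scheme.IdealSheafData.comap_comp, hΦσ, Scheme.IdealSheafData.comap_comp, ← HilbSh8.pull_eq_comap, hD,
      hsum]
  have hqflat : Flat q ∧ Surjective q ∧ QuasiCompact q := by
    rw [← he]
    exact ⟨inferInstance, inferInstance, inferInstance⟩
  haveI := hqflat.1; haveI := hqflat.2.1; haveI := hqflat.2.2
  have sqΦ : IsPullback Φ (pullback.fst _ _) (pullback.fst g f) q := by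
    refine IsPullback.of_right ?_ hΦ₁ (IsPullback.of_hasPullback g f).flip
    rw [hΦ₂, hq.over]
    exact (IsPullback.of_hasPullback _ f).flip
  haveI : Flat Φ := MorphismProperty.of_isPullback (P := @Flat) sqΦ.flip ‹_›
  haveI : Surjective Φ := MorphismProperty.of_isPullback (P := @Surjective) sqΦ.flip ‹_›
  haveI : QuasiCompact Φ := MorphismProperty.of_isPullback (P := @QuasiCompact) sqΦ.flip ‹_›
  have huniq : ∀ J : (pullback g f).IdealSheafData, J.comap Φ = ∏ i, (k i).ker → J = D.1.comap σY :=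
    fun J hJ' => eq_of_comap_eq Φ (hJ'.trans hJ.symm)
  refine ⟨⟨_, hJ, huniq⟩, fun J hJ' => ?_⟩
  rw [huniq J hJ']
  have : pullback.fst g f = σY ≫ PicF.XTproj f (Over.mk g) :=
    (pullbackSymmetry_hom_comp_snd g f).symm
  rw [this, ← Scheme.IdealSheafData.comapIso_hom_fst D.1 σY, Category.assoc, pullback.condition_assoc,
    ← Category.assoc (Scheme.IdealSheafData.comapIso D.1 σY).hom]
  haveI : IsIso σY := by dsimp [σY]; infer_instance
  obtain ⟨⟨b1, b2, b3⟩, b4⟩ := D.2
  haveI := b1; haveI := b2; haveI := b3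
  exact ⟨⟨inferInstance, inferInstance, inferInstance⟩, fun y => by
    rw [Scheme.Hom.finrank_comp_left_of_isIso]; exact b4 y⟩

end Groth.Agent.Stk19b.SymCurve
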