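import Groth.Prelude.Def_Mor2
import Groth.Agent.BTH3.Rank
import Mathlib.AlgebraicGeometry.Limits
import Mathlib.RingTheory.Ideal.Quotient.Operations
import Mathlib.RingTheory.Ideal.GoingUp

/-!
# Finite locally free morphisms with as many disjoint sections as their degree
-/

set_option autoImplicit false
set_option linter.style.haveILetI false
set_option backward.isDefEq.respectTransparency false
set_option backward.isDefEq.respectTransparency.types false

universe u

open CategoryTheory CategoryTheory.Limits AlgebraicGeometry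

namespace Groth.Agent.Stk19b.SymCurve

variable {G : Type u} [Fintype G]

/-- A finite locally free algebra with as many pairwise disjoint sections as its rank is split. -/
theorem bijective_of_sections {R A : Type u} [CommRing R] [CommRing A] [Algebra R A] [Module.Finite R A]
    [Module.Projective R A] (h : ∀ p, Module.rankAtStalk (R := R) A p = Fintype.card G) (ε : G → (A →ₐ[R] R))
    (hd : Pairwise fun g g' => ∀ P : Ideal A, P.IsMaximal → RingHom.ker (ε g) ≤ P → RingHom.ker (ε g') ≤ P → False) :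
    Function.Bijective (AlgHom.pi ε : A →ₐ[R] (G → R)) := by
  have hsurjε : ∀ g, Function.Surjective (ε g) := fun g r => ⟨algebraMap R A r, (ε g).commutes r⟩
  have hcop : Pairwise fun g g' => IsCoprime (RingHom.ker (ε g)) (RingHom.ker (ε g')) := fun g g' hgg => by
    show IsCoprime _ _
    rw [Ideal.isCoprime_iff_sup_eq]
    by_contra hne
    obtain ⟨P, hP, hle⟩ := Ideal.exists_le_maximal _ hne
    exact hd hgg P hP (le_sup_left.trans hle) (le_sup_right.trans hle)
  have hsurj : Function.Surjective (AlgHom.pi ε : A →ₐ[R] (G → R)) := by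
    intro v
    obtain ⟨a, ha⟩ := Ideal.pi_quotient_surjective hcop
      (fun g => Ideal.Quotient.mk (RingHom.ker (ε g)) (algebraMap R A (v g)))
    refine ⟨a, funext fun g => ?_⟩
    have h1 := congrArg id (ha g)
    simp only [id, Ideal.Quotient.eq, RingHom.mem_ker, map_sub, sub_eq_zero] at h1
    exact h1.trans ((ε g).commutes (v g))
  refine BTH3.bijective_of_surjective_rank (AlgHom.pi ε).toLinearMap hsurj (funext fun p => ?_)
  haveI : Nontrivial R := p.nontrivial
  rw [h p, Module.rankAtStalk_eq_finrank_of_free]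
  simp

theorem hom_ext_of_sections_affine {R : CommRingCat.{u}} {Q W : Scheme.{u}} (p : Q ⟶ Spec R) [IsFinite p] [Flat p]
    [LocallyOfFinitePresentation p] (hrk : ∀ s, p.finrank s = Fintype.card G) (σ : G → (Spec R ⟶ Q))
    (hσ : ∀ g, σ g ≫ p = 𝟙 _) (hdisj : ∀ g g', g ≠ g' → ∀ x, σ g x ≠ σ g' x) {a b : Q ⟶ W}
    (hab : ∀ g, σ g ≫ a = σ g ≫ b) : a = b := by
  classical
  haveI : IsAffine Q := isAffine_of_isAffineHom p
  obtain ⟨φ, hφ⟩ := Spec.map_surjective (Q.isoSpec.inv ≫ p)
  choose e he using fun g => Spec.map_surjective (σ g ≫ Q.isoSpec.hom)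
  have he' : ∀ g, φ ≫ e g = 𝟙 R := fun g => Spec.map_injective (by
    rw [Spec.map_comp, he, hφ, Spec.map_id, Category.assoc, Iso.hom_inv_id_assoc, hσ])
  have hfin : φ.hom.Finite := (IsFinite.SpecMap_iff _).1 (by rw [hφ]; infer_instance)
  have hflat : φ.hom.Flat := Flat.SpecMap_iff.1 (by rw [hφ]; infer_instance)
  have hfp : φ.hom.FinitePresentation := (LocallyOfFinitePresentation.SpecMap_iff _).1 (by rw [hφ]; infer_instance)
  have hr : ∀ s, φ.hom.finrank s = Fintype.card G := fun s => by
    rw [← Scheme.Hom.finrank_SpecMap_eq_finrank hfin hflat, hφ, Scheme.Hom.finrank_comp_left_of_isIso]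
    exact hrk s
  algebraize [φ.hom]
  rw [← RingHom.algebraMap_toAlgebra φ.hom] at hr
  simp only [RingHom.finrank_algebraMap] at hr
  haveI := Module.FinitePresentation.of_finite_of_finitePresentation (R := R) (S := Γ(Q, ⊤))
  haveI : Module.Projective R Γ(Q, ⊤) := Module.Flat.projective_of_finitePresentation
  let ε : G → (Γ(Q, ⊤) →ₐ[R] R) := fun g =>
    { (e g).hom with commutes' := fun r => congrArg (fun t : R ⟶ R => t r) (he' g) }
  have hεs : ∀ g, Function.Surjective (e g).hom := fun g r =>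
    ⟨φ r, congrArg (fun t : R ⟶ R => t r) (he' g)⟩
  have hbij := bijective_of_sections hr ε (fun g g' hgg P hP h1 h2 => by
    obtain ⟨x, hx⟩ : (⟨P, hP.isPrime⟩ : Spec Γ(Q, ⊤)) ∈ Set.range (Spec.map (e g)) :=
      (range_comap_of_surjective _ _ (hεs g)).ge h1
    obtain ⟨y, hy⟩ : (⟨P, hP.isPrime⟩ : Spec Γ(Q, ⊤)) ∈ Set.range (Spec.map (e g')) :=
      (range_comap_of_surjective _ _ (hεs g')).ge h2
    have hh : ∀ g z, Spec.map φ (Spec.map (e g) z) = z := fun g z => by
      rw [← Scheme.Hom.comp_apply, ← Spec.map_comp, he', Spec.map_id]; rfl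
    have hxy : x = y := by rw [← hh g x, hx, ← hy, hh]
    subst hxy
    refine hdisj g g' hgg x (Q.isoSpec.hom.homeomorph.injective ?_)
    show Q.isoSpec.hom (σ g x) = Q.isoSpec.hom (σ g' x)
    rw [← Scheme.Hom.comp_apply, ← Scheme.Hom.comp_apply, ← he, ← he, hx, hy])
  let Φ : Γ(Q, ⊤) ⟶ CommRingCat.of (G → R) := CommRingCat.ofHom (AlgHom.pi ε).toRingHom
  haveI : IsIso Φ := (ConcreteCategory.isIso_iff_bijective _).2 hbij
  rw [← cancel_epi Q.isoSpec.inv, ← cancel_epi (Spec.map Φ), ← cancel_epi (sigmaSpec (fun _ : G => R))]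
  refine Sigma.hom_ext _ _ fun g => ?_
  have : Sigma.ι (fun _ : G => Spec R) g ≫ sigmaSpec (fun _ : G => R) ≫ Spec.map Φ ≫ Q.isoSpec.inv = σ g := by
    rw [← Category.assoc, ι_sigmaSpec, ← Spec.map_comp_assoc, Iso.comp_inv_eq]
    rw [← he]
    rfl
  simp only [← Category.assoc] at this ⊢
  erw [this]
  exact hab g

/-- Morphisms out of a finite locally free scheme with as many disjoint sections as its degree are determined
by their restrictions to the sections. -/
theorem hom_ext_of_sections {P Q W : Scheme.{u}} (p : Q ⟶ P) (hp : Mor2.IsFinLocFreeOfDeg (Fintype.card G) p)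
    (σ : G → (P ⟶ Q)) (hσ : ∀ g, σ g ≫ p = 𝟙 _) (hdisj : ∀ g g', g ≠ g' → ∀ x, σ g x ≠ σ g' x) {a b : Q ⟶ W}
    (hab : ∀ g, σ g ≫ a = σ g ≫ b) : a = b := by
  obtain ⟨⟨h1, h2, h3⟩, h4⟩ := hp
  haveI := h1; haveI := h2; haveI := h3
  refine Scheme.Cover.hom_ext (P.affineCover.pullback₁ p) _ _ fun j => ?_
  let i := P.affineCover.f j
  let σ' : G → (_ ⟶ pullback p i) := fun g => pullback.lift (i ≫ σ g) (𝟙 _) (by simp [hσ])
  refine hom_ext_of_sections_affine (pullback.snd p i) (fun s => ?_) σ' (fun g => pullback.lift_snd _ _ _)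
    (fun g g' hgg x hx => ?_) (fun g => ?_)
  · rw [Scheme.Hom.finrank_pullback_snd]; exact h4 _
  · refine hdisj g g' hgg (i x) ?_
    have := congrArg (pullback.fst p i) hx
    rw [← Scheme.Hom.comp_apply, ← Scheme.Hom.comp_apply] at this
    simp only [σ', pullback.lift_fst] at this
    exact this
  · show σ' g ≫ pullback.fst p i ≫ a = σ' g ≫ pullback.fst p i ≫ b
    simp only [σ', pullback.lift_fst_assoc, Category.assoc, hab]

end Groth.Agent.Stk19b.SymCurve
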