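import Groth.Agent.Stk19b.SymCurve.Psi
import Groth.Agent.Stk19b.SymCurve.Sections
import Groth.Agent.ModPairLib.EffCartier
import Groth.Agent.SDiv28.BlowUp
import Mathlib.AlgebraicGeometry.Sites.Fpqc

/-!
# Invariant morphisms descend to the Hilbert scheme of points of a relative curve
-/

set_option autoImplicit false
set_option linter.style.haveILetI false
set_option backward.isDefEq.respectTransparency false
set_option backward.isDefEq.respectTransparency.types false

universe u

open CategoryTheory CategoryTheory.Limits AlgebraicGeometry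
open Groth.Agent

namespace Groth.Agent.Stk19b.SymCurve

/-- A point in the image of a closed immersion: the residue field morphism factors. -/
theorem fromSpecResidueField_comp_section {P Q : Scheme.{u}} (p : Q ⟶ P) (s : P ⟶ Q) [IsClosedImmersion s]
    (hs : s ≫ p = 𝟙 _) (x : P) : (Q.fromSpecResidueField (s x) ≫ p) ≫ s = Q.fromSpecResidueField (s x) := by
  have hbij : Function.Bijective (s.residueFieldMap x).hom := by
    refine ⟨(s.residueFieldMap x).hom.injective, fun z => ?_⟩
    obtain ⟨z, rfl⟩ := Ideal.Quotient.mk_surjective z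
    obtain ⟨w, rfl⟩ := s.stalkMap_surjective x z
    exact ⟨IsLocalRing.residue _ w, rfl⟩
  haveI : IsIso (s.residueFieldMap x) := (ConcreteCategory.isIso_iff_bijective _).2 hbij
  have h : Q.fromSpecResidueField (s x) = inv (Spec.map (s.residueFieldMap x)) ≫ P.fromSpecResidueField x ≫ s := by
    rw [IsIso.eq_inv_comp, Scheme.Hom.SpecMap_residueFieldMap_fromSpecResidueField]
  rw [h]
  simp only [Category.assoc, reassoc_of% hs]

variable {X S : Scheme.{u}} (f : X ⟶ S)

/-- The fibre power as the product of a smaller fibre power with the scheme. -/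
noncomputable def eMap (n : ℕ) : (pw f (n + 1)).left ≅ PicF.XT f (pw f n) := (isPullback_init f n).isoPullback

/-- A divisor on the fibre power whose complement consists of tuples of pairwise distinct points. -/
noncomputable def bigDiag : ∀ n : ℕ, (SymProd.fibPow f n).IdealSheafData
  | 0 => ⊤
  | n + 1 => (bigDiag n).comap (initMap f n).left * (sumGraph f n).comap (eMap f n).hom

theorem bigDiag_support [IsSeparated f] : ∀ (n : ℕ) {T : Scheme.{u}} (x : T ⟶ SymProd.fibPow f n) (a b : Fin n),
    a ≠ b → x ≫ WidePullback.π (fun _ => f) a = x ≫ WidePullback.π (fun _ => f) b →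
    ∀ t : T, x t ∈ (bigDiag f n).support := by
  intro n
  induction n with
  | zero => intro T x a; exact a.elim0
  | succ n ih =>
    intro T x a b hne heq t
    have key : ∀ c : Fin n,
        x ≫ WidePullback.π (fun _ => f) c.castSucc = x ≫ WidePullback.π (fun _ => f) (Fin.last n) →
        x t ∈ ((sumGraph f n).comap (eMap f n).hom).support := by
      intro c hc
      have hg : x ≫ (eMap f n).hom = (x ≫ (initMap f n).left) ≫
          HilbCurve.graph f (pw f n) (WidePullback.π _ c) (WidePullback.π_arrow (fun _ : Fin n => f) c) := by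
        apply pullback.hom_ext
        · rw [Category.assoc, Category.assoc, HilbCurve.graph_fst]
          erw [IsPullback.isoPullback_hom_fst]
          rw [Category.assoc, initMap_π, hc]
        · rw [Category.assoc, Category.assoc]
          erw [IsPullback.isoPullback_hom_snd, HilbCurve.graph_snd, Category.comp_id]
      rw [Scheme.IdealSheafData.support_comap]
      show (eMap f n).hom (x t) ∈ ((sumGraph f n).support : Set _)
      have hle : sumGraph f n ≤ (HilbCurve.graph f (pw f n) (WidePullback.π _ c)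
          (WidePullback.π_arrow (fun _ : Fin n => f) c)).ker := by
        unfold sumGraph
        rw [← Finset.mul_prod_erase _ _ (Finset.mem_univ c), mul_comm]
        exact DivCurve29.mul_le_right' _ _
      refine Scheme.IdealSheafData.support_antitone hle (Scheme.Hom.range_subset_ker_support _ ?_)
      rw [show (eMap f n).hom (x t) = (x ≫ (eMap f n).hom) t from rfl, hg]
      exact ⟨_, rfl⟩
    rw [bigDiag, Scheme.IdealSheafData.support_mul]
    cases a using Fin.lastCases with
    | last =>
      cases b using Fin.lastCases with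
      | last => exact absurd rfl hne
      | cast c => exact Or.inr (key c heq.symm)
    | cast a =>
      cases b using Fin.lastCases with
      | last => exact Or.inr (key a heq)
      | cast c =>
        refine Or.inl ?_
        rw [Scheme.IdealSheafData.support_comap]
        show (x ≫ (initMap f n).left) t ∈ (bigDiag f n).support
        refine ih (x ≫ (initMap f n).left) a c (fun h => hne (congrArg _ h)) ?_ t
        simpa only [Category.assoc, initMap_π] using heq

theorem isEffCartier_bigDiag [IsSeparated f] [SmoothOfRelativeDimension 1 f] :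
    ∀ n, BlowUp.IsEffCartierIdeal (bigDiag f n) := by
  intro n
  induction n with
  | zero => exact Groth.Agent.ProjLib.isEffCartierIdeal_top
  | succ n ih =>
    haveI : Smooth f := SmoothOfRelativeDimension.smooth 1 f
    haveI : Flat (initMap f n).left :=
      MorphismProperty.of_isPullback (P := @Flat) (isPullback_init f n) inferInstance
    exact ModPairLib.isEffCartier_mul (SDiv28.isEffCartier_comap_of_flat ih _)
      (SDiv28.isEffCartier_comap_of_flat
        (DivCurve29.isEffCartier (PicF.XTproj f (pw f n)) _ (isFinLocFreeOfDeg_sumGraph f n).1) _)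

variable [IsSeparated f] [SmoothOfRelativeDimension 1 f]

/-- An invariant morphism out of the fibre power equalises the kernel pair of the classifying map. -/
theorem kernelPair_eq {n : ℕ} {H : Over S} {Z : HilbD.Obj f n H} (hZ : HilbD.IsUniversal f n H Z) {ψ : pw f n ⟶ H}
    (hψ : HilbD.pull f ψ Z.1 = sumGraph f n) (hdeg : Mor2.IsFinLocFreeOfDeg n.factorial ψ.left)
    {W : Scheme.{u}} (u : SymProd.fibPow f n ⟶ W) (w : W ⟶ S) [IsSeparated w]
    (hu : u ≫ w = WidePullback.base _) (hinv : ∀ σ : Equiv.Perm (Fin n), SymProd.permHom f n σ ≫ u = u) :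
    pullback.fst ψ.left ψ.left ≫ u = pullback.snd ψ.left ψ.left ≫ u := by
  classical
  obtain ⟨⟨a1, a2, a3⟩, a4⟩ := hdeg
  haveI := a1; haveI := a2; haveI := a3
  let p₁ := pullback.fst ψ.left ψ.left
  let p₂ := pullback.snd ψ.left ψ.left
  let U : (SymProd.fibPow f n).Opens := ModPair.interior (bigDiag f n)
  have hU : ModPairLib.IsDenseOpen (p₁ ⁻¹ᵁ U) := by
    rw [← ModPairLib.interior_comap]
    exact ModPairLib.isDenseOpen_interior (SDiv28.isEffCartier_comap_of_flat (isEffCartier_bigDiag f n) p₁)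
  refine hU.hom_ext w ?_ ?_
  · rw [Category.assoc, Category.assoc, hu]
    show p₁ ≫ (pw f n).hom = p₂ ≫ (pw f n).hom
    rw [← Over.w ψ, pullback.condition_assoc]
  let Γσ : ULift.{u} (Equiv.Perm (Fin n)) → (U.toScheme ⟶ (p₁ ⁻¹ᵁ U).toScheme) := fun σ =>
    (isPullback_morphismRestrict p₁ U).lift (𝟙 _)
      (pullback.lift U.ι (U.ι ≫ SymProd.permHom f n σ.down) (by rw [Category.assoc, perm_comp f hZ hψ σ.down]))
      (by rw [Category.id_comp, pullback.lift_fst])
  have hΓ₁ : ∀ σ, Γσ σ ≫ (p₁ ∣_ U) = 𝟙 _ := fun σ => IsPullback.lift_fst _ _ _ _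
  have hΓι : ∀ σ, Γσ σ ≫ (p₁ ⁻¹ᵁ U).ι ≫ p₂ = U.ι ≫ SymProd.permHom f n σ.down := fun σ => by
    rw [← Category.assoc, IsPullback.lift_snd]
    exact pullback.lift_snd _ _ _
  refine hom_ext_of_sections (G := ULift.{u} (Equiv.Perm (Fin n))) (p₁ ∣_ U) ?_ Γσ hΓ₁ (fun g g' hgg x hx => ?_)
    (fun g => ?_)
  · have hc : Fintype.card (ULift.{u} (Equiv.Perm (Fin n))) = n.factorial := by
      rw [Fintype.card_ulift, Fintype.card_perm, Fintype.card_fin]
    rw [hc]
    have sq := (isPullback_morphismRestrict p₁ U).flip.paste_horiz (IsPullback.of_hasPullback ψ.left ψ.left).flip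
    exact ⟨⟨MorphismProperty.of_isPullback sq.flip.flip a1, MorphismProperty.of_isPullback sq.flip.flip a2,
      MorphismProperty.of_isPullback sq.flip.flip a3⟩,
      fun y => (Scheme.Hom.finrank_of_isPullback _ _ _ _ sq y).trans (a4 _)⟩
  · haveI : IsClosedImmersion (Γσ g ≫ (p₁ ∣_ U)) := by rw [hΓ₁]; infer_instance
    haveI : IsClosedImmersion (Γσ g' ≫ (p₁ ∣_ U)) := by rw [hΓ₁]; infer_instance
    haveI : IsClosedImmersion (Γσ g) := IsClosedImmersion.of_comp (Γσ g) (p₁ ∣_ U)
    haveI : IsClosedImmersion (Γσ g') := IsClosedImmersion.of_comp (Γσ g') (p₁ ∣_ U)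
    let q := Γσ g x
    let η := (p₁ ⁻¹ᵁ U).toScheme.fromSpecResidueField q ≫ (p₁ ∣_ U)
    have e1 : η ≫ Γσ g = (p₁ ⁻¹ᵁ U).toScheme.fromSpecResidueField q :=
      fromSpecResidueField_comp_section _ _ (hΓ₁ g) x
    have e2 : η ≫ Γσ g' = (p₁ ⁻¹ᵁ U).toScheme.fromSpecResidueField q := by
      have := fromSpecResidueField_comp_section _ _ (hΓ₁ g') x
      simp only [η, q]
      rw [hx]
      exact this
    obtain ⟨i, hi⟩ : ∃ i, g.down.symm i ≠ g'.down.symm i := by
      by_contra hne
      push_neg at hne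
      exact hgg (ULift.ext _ _ (Equiv.symm_bijective.injective (Equiv.ext hne)))
    have heq : (η ≫ U.ι) ≫ WidePullback.π (fun _ => f) (g.down.symm i) =
        (η ≫ U.ι) ≫ WidePullback.π (fun _ => f) (g'.down.symm i) := by
      have h := congrArg (· ≫ ((p₁ ⁻¹ᵁ U).ι ≫ p₂) ≫ WidePullback.π (fun _ => f) i) (e1.trans e2.symm)
      simpa only [Category.assoc, reassoc_of% hΓι, SymProd.permHom_π] using h
    obtain ⟨z⟩ : Nonempty (Spec ((p₁ ⁻¹ᵁ U).toScheme.residueField q)) := inferInstance
    have hmem := bigDiag_support f n (η ≫ U.ι) _ _ hi heq z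
    exact (η z).2 hmem
  · have h₁ : Γσ g ≫ (p₁ ⁻¹ᵁ U).ι ≫ p₁ = U.ι := by
      rw [← Category.assoc, IsPullback.lift_snd]
      exact pullback.lift_fst _ _ _
    show Γσ g ≫ (p₁ ⁻¹ᵁ U).ι ≫ p₁ ≫ u = Γσ g ≫ (p₁ ⁻¹ᵁ U).ι ≫ p₂ ≫ u
    rw [reassoc_of% h₁, reassoc_of% hΓι, hinv]

/-- Invariant morphisms descend along the classifying map. -/
theorem exists_desc {n : ℕ} {H : Over S} {Z : HilbD.Obj f n H} (hZ : HilbD.IsUniversal f n H Z) {ψ : pw f n ⟶ H}
    (hψ : HilbD.pull f ψ Z.1 = sumGraph f n) (hdeg : Mor2.IsFinLocFreeOfDeg n.factorial ψ.left)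
    {W : Scheme.{u}} (u : SymProd.fibPow f n ⟶ W) (w : W ⟶ S) [IsSeparated w]
    (hu : u ≫ w = WidePullback.base _) (hinv : ∀ σ : Equiv.Perm (Fin n), SymProd.permHom f n σ ≫ u = u) :
    ∃ v : H.left ⟶ W, ψ.left ≫ v = u := by
  have hk := kernelPair_eq f hZ hψ hdeg u w hu hinv
  obtain ⟨⟨a1, a2, a3⟩, a4⟩ := hdeg
  haveI := a1; haveI := a2; haveI := a3
  haveI : Surjective ψ.left := Scheme.Hom.one_le_finrank_iff_surjective _ |>.1 fun y => by
    rw [a4 y]; exact Nat.factorial_pos n
  haveI : EffectiveEpi ψ.left := inferInstance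
  refine ⟨EffectiveEpi.desc ψ.left u fun {T} g₁ g₂ hg => ?_, EffectiveEpi.fac _ _ _⟩
  have := congrArg (pullback.lift g₁ g₂ hg ≫ ·) hk
  simpa using this

omit [IsSeparated f] [SmoothOfRelativeDimension 1 f] in
theorem surjective_psi {n : ℕ} {H : Over S} {ψ : pw f n ⟶ H} (hdeg : Mor2.IsFinLocFreeOfDeg n.factorial ψ.left) :
    Surjective ψ.left ∧ Epi ψ.left := by
  obtain ⟨⟨a1, a2, a3⟩, a4⟩ := hdeg
  haveI := a1; haveI := a2; haveI := a3
  haveI : Surjective ψ.left := Scheme.Hom.one_le_finrank_iff_surjective _ |>.1 fun y => by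
    rw [a4 y]; exact Nat.factorial_pos n
  exact ⟨inferInstance, Flat.epi_of_flat_of_surjective _⟩

end Groth.Agent.Stk19b.SymCurve
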