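import Groth.Agent.Stk19b.SymCurve.Descend
import Groth.Agent.Stk19b.HilbPts.Cover
import Groth.Agent.SGA1Quot.Affine
import Groth.Agent.S2925
import Groth.Agent.Desc19b.IdealDescent

/-!
# Symmetric powers of relative curves are Hilbert schemes of points
-/

set_option autoImplicit false
set_option linter.style.haveILetI false
set_option backward.isDefEq.respectTransparency false
set_option backward.isDefEq.respectTransparency.types false

universe u

open CategoryTheory CategoryTheory.Limits AlgebraicGeometry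
open Groth.Agent

namespace Groth.Agent.Stk19b.SymCurve

/-- Inverse images along a flat surjective quasi-compact morphism determine the ideal. -/
theorem eq_of_comap_eq {A B : Scheme.{u}} (Φ : A ⟶ B) [Flat Φ] [Surjective Φ] [QuasiCompact Φ]
    {I J : B.IdealSheafData} (h : I.comap Φ = J.comap Φ) : I = J := by
  have key : ∀ I J : B.IdealSheafData, I.comap Φ = J.comap Φ → I ≤ J := fun I J h => by
    rw [← J.ker_subschemeι, ← HilbCurve.comap_le_bot_iff]
    let r := pullback.fst J.subschemeι Φ
    have h1 : (I.comap J.subschemeι).comap r ≤ ⊥ := by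
      rw [← Scheme.IdealSheafData.comap_comp, pullback.condition, Scheme.IdealSheafData.comap_comp, h,
        ← Scheme.IdealSheafData.comap_comp, ← pullback.condition, Scheme.IdealSheafData.comap_comp]
      refine ((Scheme.IdealSheafData.map_gc r).monotone_l ?_).trans (Scheme.IdealSheafData.comap_bot r).le
      rw [HilbCurve.comap_le_bot_iff, J.ker_subschemeι]
    haveI := Desc19b.isSchemeTheoreticallyDominant_of_flat r
    rw [HilbCurve.comap_le_bot_iff, r.ker_eq_bot] at h1
    exact h1
  exact le_antisymm (key I J h) (key J I h.symm)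

theorem property_base (P : MorphismProperty Scheme.{u}) [P.IsStableUnderComposition] [P.IsStableUnderBaseChange]
    [P.ContainsIdentities] {X S : Scheme.{u}} (f : X ⟶ S) (hf : P f) :
    ∀ n, P (WidePullback.base fun _ : Fin n => f) := by
  intro n
  induction n with
  | zero => have := isIso_base_zero f; exact P.of_isIso _
  | succ n ih =>
    rw [← initMap_base f n]
    exact P.comp_mem _ _ (MorphismProperty.of_isPullback (P := P) (isPullback_init f n) hf) ih

theorem representable {X S : Scheme.{u}} (f : X ⟶ S) [IsSeparated f] [LocallyOfFiniteType f]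
    (hAF : SymProd.IsAF f) (d : ℕ) : HilbD.Representable f d := by
  classical
  refine HilbPts.representable_of_affine_sets (f := f) d fun s x hx => ?_
  obtain ⟨U, hU, hxU⟩ := hAF s (Finset.univ.image x) (fun y hy => by
    obtain ⟨i, -, rfl⟩ := Finset.mem_image.1 hy
    exact hx i)
  exact ⟨U, hU, fun i => hxU _ (Finset.mem_image.2 ⟨i, Finset.mem_univ _, rfl⟩)⟩

variable {X S Y : Scheme.{u}} (f : X ⟶ S) [IsProper f] [SmoothOfRelativeDimension 1 f]

/-- A symmetric power of a relative curve is its Hilbert scheme of points. -/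
theorem exists_model (hAF : SymProd.IsAF f) (n : ℕ) (q : SymProd.fibPow f n ⟶ Y) (g : Y ⟶ S)
    (hq : SymProd.IsSymProd f n q g) :
    ∃ (H : Over S) (Z : HilbD.Obj f n H) (ψ : pw f n ⟶ H) (e : H ≅ Over.mk g), HilbD.IsUniversal f n H Z ∧
      HilbD.pull f ψ Z.1 = sumGraph f n ∧ Mor2.IsFinLocFreeOfDeg n.factorial ψ.left ∧ Smooth H.hom ∧
      ψ.left ≫ e.hom.left = q := by
  have hrep := representable f hAF
  obtain ⟨H, Z, hZ⟩ := hrep n
  obtain ⟨ψ, hψ, -⟩ := hZ (pw f n) ⟨_, isFinLocFreeOfDeg_sumGraph f n⟩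
  have hdeg := psi_finLocFree f hrep n H Z hZ ψ hψ
  obtain ⟨hs, hepi⟩ := surjective_psi f hdeg
  have hp := hq.isQuot
  haveI : IsSeparated (q ≫ g) := by rw [hq.over]; exact property_base @IsSeparated f inferInstance n
  haveI : IsSeparated g := SGA1Quot.isSeparated_of_comp hp g
  have hinvq : ∀ σ : Equiv.Perm (Fin n), SymProd.permHom f n σ ≫ q = q := fun σ => hp.inv ⟨σ⟩
  obtain ⟨v, hv⟩ := exists_desc f hZ hψ hdeg q g hq.over hinvq
  have hvg : v ≫ g = H.hom := by
    rw [← cancel_epi ψ.left, reassoc_of% hv, hq.over]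
    exact (Over.w ψ).symm
  obtain ⟨m, hm, -⟩ := S2925.result _ q hp H.left ψ.left (fun σ => perm_comp f hZ hψ σ.down)
  have h1 : v ≫ m = 𝟙 _ := by rw [← cancel_epi ψ.left, reassoc_of% hv, hm, Category.comp_id]
  have h2 : m ≫ v = 𝟙 _ :=
    (S2925.result _ q hp Y q (fun σ => hinvq σ.down)).unique (by rw [reassoc_of% hm, hv]) (Category.comp_id _)
  refine ⟨H, Z, ψ, Over.isoMk ⟨v, m, h1, h2⟩ hvg, hZ, hψ, hdeg, HilbCurve.smooth_hilb f hrep n H Z hZ, hv⟩

end Groth.Agent.Stk19b.SymCurve
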